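import Mathlib.CategoryTheory.EffectiveEpi.Comp
import Mathlib.CategoryTheory.MorphismProperty.Limits
import Mathlib.CategoryTheory.Limits.Shapes.Pullback.HasPullback
import Mathlib.CategoryTheory.Limits.Shapes.Pullback.IsPullback.BicartesianSq
import Mathlib.CategoryTheory.Limits.Shapes.RegularMono
import Mathlib.CategoryTheory.Comma.Over.Pullback
import Mathlib.CategoryTheory.EquivalenceRelation
import Mathlib.CategoryTheory.Monoidal.Cartesian.Grp

open CategoryTheory CategoryTheory.Limits

universe v₁ u₁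

namespace Groth.Agent.DescCat45

variable {C : Type u₁} [Category.{v₁} C]

/-- Universal effective epimorphisms. -/
abbrev UEE : MorphismProperty C :=
  MorphismProperty.universally (fun (A B : C) (p : A ⟶ B) => EffectiveEpi p)

lemma uee_effectiveEpi {X Y : C} {f : X ⟶ Y} (h : UEE f) : EffectiveEpi f :=
  MorphismProperty.universally_le (fun (A B : C) (p : A ⟶ B) => EffectiveEpi p) f h

lemma uee_epi {X Y : C} {f : X ⟶ Y} (h : UEE f) : Epi f := by
  have := uee_effectiveEpi h
  infer_instance

lemma uee_univ_epi {X Y : C} {f : X ⟶ Y} (h : UEE f) :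
    MorphismProperty.universally (MorphismProperty.epimorphisms C) f := by
  intro A B i₁ i₂ f' sq'
  have sq := sq'.flip
  have : EffectiveEpi f' := h i₁ i₂ f' sq'
  exact (inferInstance : Epi f')

lemma uee_of_isPullback {X Y X' Y' : C} {f : X ⟶ Y} {g : Y' ⟶ Y} {f' : X' ⟶ Y'} {g' : X' ⟶ X}
    (sq : IsPullback g' f' f g) (h : UEE f) : UEE f' :=
  MorphismProperty.of_isPullback (P := MorphismProperty.universally _) sq h

variable [HasPullbacks C]

/-- Refinement: along a universal epimorphism any two maps lift after an epimorphic refinement. -/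
lemma exists_lift_pair {U T W : C} (v : U ⟶ T)
    (hv : MorphismProperty.universally (MorphismProperty.epimorphisms C) v) (a b : W ⟶ T) :
    ∃ (W' : C) (p : W' ⟶ W) (a' b' : W' ⟶ U), Epi p ∧ a' ≫ v = p ≫ a ∧ b' ≫ v = p ≫ b := by
  have h₁ : Epi (pullback.snd v a) := hv _ _ _ (IsPullback.of_hasPullback v a).flip
  have h₂ : Epi (pullback.snd v (pullback.snd v a ≫ b)) :=
    hv _ _ _ (IsPullback.of_hasPullback v (pullback.snd v a ≫ b)).flip
  refine ⟨_, pullback.snd v (pullback.snd v a ≫ b) ≫ pullback.snd v a,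
    pullback.snd v (pullback.snd v a ≫ b) ≫ pullback.fst v a, pullback.fst _ _, epi_comp _ _, ?_, ?_⟩
  · simp [pullback.condition]
  · simp [pullback.condition]

lemma effectiveEpi_comp_of_univ_epi {U T S : C} (v : U ⟶ T) (u : T ⟶ S) [EffectiveEpi u]
    [EffectiveEpi v] (hv : MorphismProperty.universally (MorphismProperty.epimorphisms C) v) :
    EffectiveEpi (v ≫ u) := by
  have key : ∀ {Z : C} (h : U ⟶ Z)
      (hh : ∀ {W : C} (a b : W ⟶ U), a ≫ v ≫ u = b ≫ v ≫ u → a ≫ h = b ≫ h),
      ∃ k : S ⟶ Z, (v ≫ u) ≫ k = h := by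
    intro Z h hh
    have hv' : ∀ {W : C} (a b : W ⟶ U), a ≫ v = b ≫ v → a ≫ h = b ≫ h := fun a b e => by
      apply hh; rw [← Category.assoc, e, Category.assoc]
    have hk : ∀ {W : C} (a b : W ⟶ T), a ≫ u = b ≫ u →
        a ≫ EffectiveEpi.desc v h hv' = b ≫ EffectiveEpi.desc v h hv' := by
      intro W a b e
      obtain ⟨W', p, a', b', hp, ha, hb⟩ := exists_lift_pair v hv a b
      rw [← cancel_epi p, ← Category.assoc, ← ha, Category.assoc, ← Category.assoc p b, ← hb,
        Category.assoc, EffectiveEpi.fac]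
      apply hh
      rw [← Category.assoc, ha, Category.assoc, e, ← Category.assoc, ← hb, Category.assoc]
    exact ⟨EffectiveEpi.desc u _ hk, by rw [Category.assoc, EffectiveEpi.fac, EffectiveEpi.fac]⟩
  exact ⟨⟨{
    desc := fun h hh => (key h hh).choose
    fac := fun h hh => (key h hh).choose_spec
    uniq := fun h hh m hm => by
      rw [← cancel_epi u, ← cancel_epi v, ← Category.assoc, hm, ← Category.assoc,
        (key h hh).choose_spec] }⟩⟩

lemma uee_comp {U T S : C} {v : U ⟶ T} {u : T ⟶ S} (hu : UEE u) (hv : UEE v) : UEE (v ≫ u) := by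
  intro A B i₁ i₂ f' sq'
  have sq := sq'.flip
  have hf : f' = pullback.lift (i₁ ≫ v) f' (by rw [Category.assoc, sq.w]) ≫ pullback.snd u i₂ := by
    simp [pullback.lift_snd]
  have sqv : IsPullback i₁ (pullback.lift (i₁ ≫ v) f' (by rw [Category.assoc, sq.w])) v
      (pullback.fst u i₂) := by
    refine IsPullback.of_bot ?_ (by simp [pullback.lift_fst]) (IsPullback.of_hasPullback u i₂)
    rw [← hf]; exact sq
  have hl : UEE (pullback.lift (i₁ ≫ v) f' (by rw [Category.assoc, sq.w])) :=
    uee_of_isPullback sqv hv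
  have hs : UEE (pullback.snd u i₂) := uee_of_isPullback (IsPullback.of_hasPullback u i₂) hu
  rw [hf]
  have := uee_effectiveEpi hl
  have := uee_effectiveEpi hs
  exact effectiveEpi_comp_of_univ_epi _ _ (uee_univ_epi hl)

lemma effectiveEpi_of_comp_uee {U T S : C} (v : U ⟶ T) (u : T ⟶ S) (h : UEE (v ≫ u)) :
    EffectiveEpi u := by
  have := uee_effectiveEpi h
  have hu : Epi u := epi_of_epi v u
  have key : ∀ {Z : C} (t : T ⟶ Z)
      (ht : ∀ {W : C} (a b : W ⟶ T), a ≫ u = b ≫ u → a ≫ t = b ≫ t),
      ∃ k : S ⟶ Z, u ≫ k = t := by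
    intro Z t ht
    refine ⟨EffectiveEpi.desc (v ≫ u) (v ≫ t) fun a b e => ?_, ?_⟩
    · have := ht (a ≫ v) (b ≫ v) (by simpa using e)
      simpa using this
    · have hp : Epi (pullback.snd (v ≫ u) u) :=
        uee_epi (uee_of_isPullback (IsPullback.of_hasPullback (v ≫ u) u) h)
      rw [← cancel_epi (pullback.snd (v ≫ u) u), ← Category.assoc, ← pullback.condition,
        Category.assoc, EffectiveEpi.fac, ← Category.assoc]
      apply ht
      simp [pullback.condition]
  exact ⟨⟨{
    desc := fun t ht => (key t ht).choose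
    fac := fun t ht => (key t ht).choose_spec
    uniq := fun t ht m hm => by rw [← cancel_epi u, hm, (key t ht).choose_spec] }⟩⟩

lemma uee_of_comp {U T S : C} (v : U ⟶ T) (u : T ⟶ S) (h : UEE (v ≫ u)) : UEE u := by
  intro A B i₁ i₂ f' sq'
  have sq := sq'.flip
  refine effectiveEpi_of_comp_uee (pullback.snd v i₁) f' ?_
  exact uee_of_isPullback ((IsPullback.of_hasPullback v i₁).paste_vert sq) h

lemma uee_iff_baseChange {S' S T : C} (g : S' ⟶ S) (hg : UEE g) (u : T ⟶ S) :
    UEE u ↔ UEE (pullback.snd u g) := by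
  refine ⟨fun hu => uee_of_isPullback (IsPullback.of_hasPullback u g) hu, fun h => ?_⟩
  refine uee_of_comp (pullback.fst u g) u ?_
  rw [pullback.condition]
  exact uee_comp hg h

lemma mono_of_lift {X B Z : C} {π : X ⟶ B} (hπ : UEE π) (g : B ⟶ Z)
    (h : ∀ {W : C} (a b : W ⟶ X), a ≫ π ≫ g = b ≫ π ≫ g → a ≫ π = b ≫ π) : Mono g := by
  constructor
  intro W a b e
  obtain ⟨W', p, a', b', hp, ha, hb⟩ := exists_lift_pair π (uee_univ_epi hπ) a b
  rw [← cancel_epi p, ← ha, ← hb]
  apply h
  rw [← Category.assoc, ha, Category.assoc, e, ← Category.assoc, ← hb, Category.assoc]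

lemma uee_prodMap [HasBinaryProducts C] {X Y X' Y' : C} {u : X ⟶ Y} {u' : X' ⟶ Y'}
    (hu : UEE u) (hu' : UEE u') : UEE (prod.map u u') := by
  have e : prod.map u u' = prod.map u (𝟙 X') ≫ prod.map (𝟙 Y) u' := by simp [prod.map_map]
  have h₁ : IsPullback (prod.fst : X ⨯ X' ⟶ X) (prod.map u (𝟙 X')) u (prod.fst : Y ⨯ X' ⟶ Y) := by
    refine IsPullback.of_isLimit' ⟨(prod.map_fst _ _).symm⟩
      (PullbackCone.IsLimit.mk _ (fun s => prod.lift s.fst (s.snd ≫ prod.snd))
        (fun s => prod.lift_fst _ _) ?_ ?_)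
    · intro s
      ext
      · simpa [prod.lift_fst] using s.condition
      · simp [prod.lift_snd]
    · intro s m h1 h2
      ext
      · simpa [prod.lift_fst] using h1
      · simp [← h2, prod.lift_snd]
  have h₂ : IsPullback (prod.snd : Y ⨯ X' ⟶ X') (prod.map (𝟙 Y) u') u'
      (prod.snd : Y ⨯ Y' ⟶ Y') := by
    refine IsPullback.of_isLimit' ⟨(prod.map_snd _ _).symm⟩
      (PullbackCone.IsLimit.mk _ (fun s => prod.lift (s.snd ≫ prod.fst) s.fst)
        (fun s => prod.lift_snd _ _) ?_ ?_)
    · intro s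
      ext
      · simp [prod.lift_fst]
      · simpa [prod.lift_snd] using s.condition
    · intro s m h1 h2
      ext
      · simp [← h2, prod.lift_fst]
      · simpa [prod.lift_snd] using h1
  rw [e]
  exact uee_comp (uee_of_isPullback h₂ hu') (uee_of_isPullback h₁ hu)

theorem isIso_iff_mono_iff {S' S : C} (f : S' ⟶ S) (hf : UEE f) {X Y : Over S} (g : X ⟶ Y) :
    (IsIso g ↔ IsIso ((Over.pullback f).map g)) ∧ (Mono g ↔ Mono ((Over.pullback f).map g)) := by
  have hX : UEE (pullback.fst X.hom f) :=
    uee_of_isPullback (IsPullback.of_hasPullback X.hom f).flip hf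
  have hY : UEE (pullback.fst Y.hom f) :=
    uee_of_isPullback (IsPullback.of_hasPullback Y.hom f).flip hf
  have sq : ((Over.pullback f).map g).left ≫ pullback.fst Y.hom f =
      pullback.fst X.hom f ≫ g.left := by simp [pullback.lift_fst]
  have hm : Mono g ↔ Mono ((Over.pullback f).map g) := by
    refine ⟨fun _ => Functor.map_mono _ _, fun h => ?_⟩
    have : Mono ((Over.pullback f).map g).left := inferInstance
    have hg : Mono g.left := by
      constructor
      intro W a b e
      have e' : a ≫ X.hom = b ≫ X.hom := by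
        rw [← Over.w g, ← Category.assoc, e, Category.assoc]
      have hp : Epi (pullback.fst (a ≫ X.hom) f) :=
        uee_epi (uee_of_isPullback (IsPullback.of_hasPullback (a ≫ X.hom) f).flip hf)
      let a' : pullback (a ≫ X.hom) f ⟶ ((Over.pullback f).obj X).left :=
        pullback.lift (pullback.fst _ _ ≫ a) (pullback.snd _ _) (by simp [pullback.condition])
      let b' : pullback (a ≫ X.hom) f ⟶ ((Over.pullback f).obj X).left :=
        pullback.lift (pullback.fst _ _ ≫ b) (pullback.snd _ _) (by simp [← e', pullback.condition])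
      have hab : a' = b' := by
        rw [← cancel_mono ((Over.pullback f).map g).left]
        apply pullback.hom_ext <;> simp [a', b', e, pullback.lift_fst, pullback.lift_snd, pullback.lift_fst_assoc]
      rw [← cancel_epi (pullback.fst (a ≫ X.hom) f)]
      simpa [a', b', pullback.lift_fst, pullback.lift_snd] using congrArg (fun t => t ≫ pullback.fst X.hom f) hab
    exact Over.mono_of_mono_left g
  refine ⟨⟨fun _ => inferInstance, fun h => ?_⟩, hm⟩
  have : Mono g := hm.2 inferInstance
  have : IsIso ((Over.pullback f).map g).left := inferInstanceAs (IsIso ((Over.forget S').map ((Over.pullback f).map g)))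
  have := uee_effectiveEpi hY
  have : IsRegularEpi (pullback.fst Y.hom f) :=
    isRegularEpi_of_regularEpi (regularEpiOfEffectiveEpi _)
  have h1 : StrongEpi (((Over.pullback f).map g).left ≫ pullback.fst Y.hom f) := strongEpi_comp _ _
  rw [sq] at h1
  have : StrongEpi g.left := strongEpi_of_strongEpi (pullback.fst X.hom f) g.left
  have : IsIso g.left := isIso_of_mono_of_strongEpi _
  have : IsIso ((Over.forget S).map g) := ‹IsIso g.left›
  exact isIso_of_reflects_iso g (Over.forget S)

theorem nonempty_hom_iff {S' S : C} (f : S' ⟶ S) (hf : UEE f) (X Y : Over S) [Mono Y.hom] :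
    Nonempty (X ⟶ Y) ↔ Nonempty ((Over.pullback f).obj X ⟶ (Over.pullback f).obj Y) := by
  refine ⟨fun ⟨g⟩ => ⟨(Over.pullback f).map g⟩, fun ⟨g⟩ => ?_⟩
  have hX : EffectiveEpi (pullback.fst X.hom f) :=
    uee_effectiveEpi (uee_of_isPullback (IsPullback.of_hasPullback X.hom f).flip hf)
  let h : pullback X.hom f ⟶ Y.left := g.left ≫ pullback.fst Y.hom f
  have hh : h ≫ Y.hom = pullback.fst X.hom f ≫ X.hom := by
    have := Over.w g
    simp only [Over.pullback_obj_hom] at this
    simp [h, pullback.condition, reassoc_of% this]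
  refine ⟨Over.homMk (EffectiveEpi.desc (pullback.fst X.hom f) h fun a b e => ?_) ?_⟩
  · rw [← cancel_mono Y.hom, Category.assoc a, Category.assoc b, hh, ← Category.assoc, e, Category.assoc]
  · rw [← cancel_epi (pullback.fst X.hom f), EffectiveEpi.fac_assoc, hh]

theorem mono_of_mapDesc {S' S T : C} (f : S' ⟶ S) (hf : UEE f) (g : S ⟶ T)
    [IsIso (pullback.mapDesc f f g)] : Mono g := by
  refine mono_of_lift hf g fun {W} a b e => ?_
  let l : W ⟶ pullback f f :=
    pullback.lift a b (by simpa using e) ≫ inv (pullback.mapDesc f f g)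
  have hl : l ≫ pullback.mapDesc f f g = pullback.lift a b (by simpa using e) := by simp [l]
  have h1 : l ≫ pullback.fst f f = a := by
    simpa [pullback.mapDesc, pullback.map, pullback.lift_fst] using congrArg (fun t => t ≫ pullback.fst (f ≫ g) (f ≫ g)) hl
  have h2 : l ≫ pullback.snd f f = b := by
    simpa [pullback.mapDesc, pullback.map, pullback.lift_snd] using congrArg (fun t => t ≫ pullback.snd (f ≫ g) (f ≫ g)) hl
  rw [← h1, ← h2]
  simp only [Category.assoc, pullback.condition]

theorem mono_iff_isKernelPair {R X Z : C} {p₁ p₂ : R ⟶ X}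
    (e : UniversallyEffectiveEquivalenceRelation p₁ p₂)
    (f : X ⟶ Z) (g : e.B ⟶ Z) (hg : e.π ≫ g = f) :
    Mono g ↔ IsKernelPair f p₁ p₂ := by
  subst hg
  refine ⟨fun _ => e.isKernelPair.comp_of_mono, fun h => ?_⟩
  refine mono_of_lift e.universally_effectiveEpi_π g fun a b hab => ?_
  obtain ⟨l, h1, h2⟩ := IsKernelPair.lift' h a b hab
  rw [← h1, ← h2, Category.assoc, Category.assoc, e.isKernelPair.w]

omit [HasPullbacks C] in
theorem presheaf_exact {T S : C} (u : T ⟶ S) [IsSplitEpi u] [HasPullback u u]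
    (F : Cᵒᵖ ⥤ Type*) :
    Function.Injective (F.map u.op) ∧
      ∀ y : F.obj (Opposite.op T),
        F.map (pullback.fst u u).op y = F.map (pullback.snd u u).op y →
          y ∈ Set.range (F.map u.op) := by
  have h : section_ u ≫ u = 𝟙 S := IsSplitEpi.id u
  constructor
  · intro x y e
    have := congrArg (F.map (section_ u).op) e
    simpa [← Functor.map_comp_apply, ← op_comp, h] using this
  · intro y e
    refine ⟨F.map (section_ u).op y, ?_⟩
    have l : 𝟙 T ≫ u = (u ≫ section_ u) ≫ u := by simp [h]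
    have := congrArg (F.map (pullback.lift (𝟙 T) (u ≫ section_ u) l).op) e
    simpa [← Functor.map_comp_apply, ← op_comp, pullback.lift_fst, pullback.lift_snd] using this.symm

omit [HasPullbacks C] in
theorem isKernelPair_prodMap [HasBinaryProducts C] {R X R' X' B B' : C} {p₁ p₂ : R ⟶ X}
    {p₁' p₂' : R' ⟶ X'} {π : X ⟶ B} {π' : X' ⟶ B'} (h : IsKernelPair π p₁ p₂)
    (h' : IsKernelPair π' p₁' p₂') :
    IsKernelPair (prod.map π π') (prod.map p₁ p₁') (prod.map p₂ p₂') := by
  refine IsPullback.of_isLimit' ⟨by simp [prod.map_map, h.w, h'.w]⟩ (PullbackCone.IsLimit.mk _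
    (fun s => prod.lift (h.lift (s.fst ≫ prod.fst) (s.snd ≫ prod.fst) ?_)
      (h'.lift (s.fst ≫ prod.snd) (s.snd ≫ prod.snd) ?_)) ?_ ?_ ?_)
  · simpa using congrArg (fun t => t ≫ prod.fst) s.condition
  · simpa using congrArg (fun t => t ≫ prod.snd) s.condition
  · intro s
    ext <;> simp [prod.lift_fst, prod.lift_snd]
  · intro s
    ext <;> simp [prod.lift_fst, prod.lift_snd]
  · intro s m h1 h2
    ext
    · apply h.hom_ext <;> simp [← h1, ← h2, prod.lift_fst_assoc]
    · apply h'.hom_ext <;> simp [← h1, ← h2, prod.lift_snd_assoc]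

section
open MonObj CartesianMonoidalCategory SemiCartesianMonoidalCategory MonoidalCategory

theorem isKernelPair_mul [CartesianMonoidalCategory C] {G G' : C} [GrpObj G] [GrpObj G']
    (f : G ⟶ G') [IsMonHom f] :
    IsKernelPair f (fst G (pullback f η[G']))
      ((G ◁ pullback.fst f η[G']) ≫ μ[G]) := by
  have hk : pullback.fst f η[G'] ≫ f = 1 := by
    rw [pullback.condition, Hom.one_def, toUnit_unique (pullback.snd f η[G']) (toUnit _)]
  have hm : (G ◁ pullback.fst f η[G']) ≫ μ[G] =
      fst G (pullback f η[G']) * (snd G (pullback f η[G']) ≫ pullback.fst f η[G']) := by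
    rw [Hom.mul_def]
    congr 1
    ext <;> simp
  rw [hm]
  refine IsPullback.of_isLimit' ⟨by simp [MonObj.mul_comp, hk]⟩ (PullbackCone.IsLimit.mk _
    (fun s => lift s.fst (pullback.lift (s.fst⁻¹ * s.snd) (toUnit _) ?_)) ?_ ?_ ?_)
  · have := s.condition
    simp [MonObj.mul_comp, GrpObj.inv_comp, this, Hom.one_def]
  · intro s; simp
  · intro s
    simp [MonObj.comp_mul, pullback.lift_fst]
  · intro s m h1 h2
    ext
    · simpa using h1
    · simp [← h1, ← h2, MonObj.comp_mul, pullback.lift_fst]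

end

end Groth.Agent.DescCat45
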